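import Cfsg.Agent.Helper86.PG63.F8
import Cfsg.Agent.Helper6.Sz2
import Cfsg.Prelude.Def_Classical
import Cfsg.Prelude.Def_LieExceptional

/-!
# S3664 (helper86): definitions

Target: groups of unbounded order with the prime graph of `PSp(6,3)`:
vertices `2, 3, 5, 7, 13`, edges `2-3, 2-5, 3-5, 2-7`.

Family: `H_k = M^k ⋊ (Sz(8):3)`, `M` = `4 × 4` matrices over `F8` (additive group, `2^48` elements),
`g · X = g X (g^φ)ᵀ` for `g ∈ Sz(8) ≤ SL₄(F8)` (`g^φ` = entrywise Frobenius), and the field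
automorphism acting entrywise.
-/

set_option autoImplicit false

namespace Cfsg.Agent.Helper86.PG63

open Cfsg.Agent.Helper6

/-- the vertices of the target graph -/
def Vert (p : ℕ) : Prop := p = 2 ∨ p = 3 ∨ p = 5 ∨ p = 7 ∨ p = 13

/-- the edges of the target graph -/
def Edge (p q : ℕ) : Prop :=
  (p = 2 ∧ q = 3) ∨ (p = 3 ∧ q = 2) ∨ (p = 2 ∧ q = 5) ∨ (p = 5 ∧ q = 2) ∨
  (p = 3 ∧ q = 5) ∨ (p = 5 ∧ q = 3) ∨ (p = 2 ∧ q = 7) ∨ (p = 7 ∧ q = 2)

/-- `G` has the target prime graph -/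
def HasGraph (G : Type*) [Group G] : Prop :=
  (∀ p : ℕ, p.Prime → (p ∣ Nat.card G ↔ Vert p)) ∧
  (∀ p q : ℕ, p.Prime → q.Prime → p ≠ q → ((∃ g : G, orderOf g = p * q) ↔ Edge p q))

/-- no element whose order is the product of two non-adjacent vertices -/
def NoBad (G : Type*) [Group G] : Prop :=
  ∀ g : G, orderOf g ≠ 21 ∧ orderOf g ≠ 35 ∧ orderOf g ≠ 26 ∧ orderOf g ≠ 39 ∧
    orderOf g ≠ 65 ∧ orderOf g ≠ 91

/-- `4 × 4` matrices over `F8` -/
abbrev M4 : Type := Matrix (Fin 4) (Fin 4) F8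

/-- `SL₄(F8)` -/
abbrev SL4 : Type := Matrix.SpecialLinearGroup (Fin 4) F8

/-- the Frobenius `x ↦ x²` of `F8` -/
def frobF8 : F8 →+* F8 where
  toFun x := x * x
  map_one' := by decide
  map_mul' := by decide
  map_zero' := by decide
  map_add' := by decide

theorem frobF8_apply (x : F8) : frobF8 x = x * x := rfl

theorem frobF8_cube (x : F8) : frobF8 (frobF8 (frobF8 x)) = x := by revert x; decide

/-- entrywise Frobenius on `SL₄(F8)` -/
def frobSL : SL4 →* SL4 := Matrix.SpecialLinearGroup.map frobF8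

/-- entrywise Frobenius on matrices -/
def frobM (X : M4) : M4 := X.map frobF8

/-- the action of `SL₄(F8)` on `M4`: `g · X = g X (g^φ)ᵀ` -/
def actM (g : SL4) (X : M4) : M4 := (g : M4) * X * ((frobSL g : SL4) : M4).transpose

/-- `Sz(8)` as a subgroup of `SL₄(F8)` (helper6's library applies with `m = 1`,
`hF := F8.card_eq'`) -/
abbrev SzG : Subgroup SL4 := Cfsg.Sz F8 1

/-- `α` as a unit -/
def αu : F8ˣ := Units.mk0 F8.α F8.α_ne_zero

/-- an involution of `Sz(8)` with entries in `F_2` -/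
noncomputable def t2 : SL4 := szT F8

/-- an element of order `5` of `Sz(8)` with entries in `F_2` -/
noncomputable def t5 : SL4 := szT F8 * szU F8 1 0 1

/-- an element of order `13` of `Sz(8)` -/
noncomputable def x13 : SL4 := szT F8 * szU F8 1 F8.α 0

/-- an element of order `7` of `Sz(8)` (diagonal) -/
noncomputable def h7 : SL4 := szD F8 1 αu

/-- the matrix of the symplectic form (ones on the antidiagonal) -/
def J4 : M4 := !![0, 0, 0, 1; 0, 0, 1, 0; 0, 1, 0, 0; 1, 0, 0, 0]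

/-- the matrix unit `E₀₁` -/
def E01 : M4 := !![0, 1, 0, 0; 0, 0, 0, 0; 0, 0, 0, 0; 0, 0, 0, 0]

end Cfsg.Agent.Helper86.PG63
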