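import Mathlib

/-!
# S3664 (helper86): a concrete computable model `F8` of the field with eight elements

`F8 = F_2[α]/(α³ + α + 1)`; the element `x0 + x1 α + x2 α²` is the triple of booleans
`⟨x0, x1, x2⟩`.  All operations are boolean formulas, so `decide` evaluates them quickly.
-/

set_option autoImplicit false

namespace Cfsg.Agent.Helper86.PG63

/-- the field with eight elements, as triples of booleans (coefficients of `1, α, α²`,
`α³ = α + 1`) -/
structure F8 : Type where
  x0 : Bool
  x1 : Bool
  x2 : Bool
  deriving DecidableEq, Fintype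

namespace F8

/-- addition: coefficientwise xor -/
def add (x y : F8) : F8 := ⟨xor x.x0 y.x0, xor x.x1 y.x1, xor x.x2 y.x2⟩

/-- multiplication modulo `α³ = α + 1` -/
def mul (x y : F8) : F8 :=
  let c0 := x.x0 && y.x0
  let c1 := xor (x.x0 && y.x1) (x.x1 && y.x0)
  let c2 := xor (xor (x.x0 && y.x2) (x.x1 && y.x1)) (x.x2 && y.x0)
  let c3 := xor (x.x1 && y.x2) (x.x2 && y.x1)
  let c4 := x.x2 && y.x2
  ⟨xor c0 c3, xor (xor c1 c3) c4, xor c2 c4⟩

/-- squaring (the Frobenius map) -/
def sq (x : F8) : F8 := mul x x

/-- inverse: `x⁻¹ = x⁶` (and `0⁻¹ = 0`) -/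
def inv (x : F8) : F8 := mul (sq x) (sq (sq x))

instance : Zero F8 := ⟨⟨false, false, false⟩⟩
instance : One F8 := ⟨⟨true, false, false⟩⟩
instance : Add F8 := ⟨add⟩
instance : Mul F8 := ⟨mul⟩
instance : Neg F8 := ⟨id⟩
instance : Inv F8 := ⟨inv⟩

/-- the generator `α` with `α³ = α + 1` -/
def α : F8 := ⟨false, true, false⟩

instance : CommRing F8 where
  add_assoc := by decide
  zero_add := by decide
  add_zero := by decide
  nsmul := nsmulRec
  zsmul := zsmulRec
  neg_add_cancel := by decide
  add_comm := by decide
  left_distrib := by decide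
  right_distrib := by decide
  zero_mul := by decide
  mul_zero := by decide
  mul_assoc := by decide
  one_mul := by decide
  mul_one := by decide
  mul_comm := by decide

instance : Field F8 where
  exists_pair_ne := ⟨0, 1, by decide⟩
  mul_inv_cancel := by decide
  inv_zero := rfl
  nnqsmul := _
  nnqsmul_def := fun _ _ => rfl
  qsmul := _
  qsmul_def := fun _ _ => rfl

theorem card_eq : Fintype.card F8 = 8 := rfl

theorem card_eq' : Fintype.card F8 = 2 ^ (2 * 1 + 1) := rfl

theorem two_eq_zero : (2 : F8) = 0 := by decide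

theorem add_self (a : F8) : a + a = 0 := by revert a; decide

theorem neg_eq (a : F8) : -a = a := rfl

theorem pow_eight (a : F8) : a ^ 8 = a := by revert a; decide

theorem α_cube : α ^ 3 = α + 1 := by decide

theorem α_ne_zero : α ≠ 0 := by decide

theorem α_pow_seven : α ^ 7 = 1 := by decide

instance : CharP F8 2 := by
  refine ⟨fun n => ?_⟩
  constructor
  · intro h
    by_contra h2
    have hodd : n % 2 = 1 := by omega
    have : (n : F8) = 1 := by
      have hn : n = 2 * (n / 2) + 1 := by omega
      rw [hn]; push_cast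
      rw [two_eq_zero, zero_mul, zero_add]
    rw [this] at h
    exact absurd h (by decide)
  · rintro ⟨k, rfl⟩
    push_cast
    rw [two_eq_zero, zero_mul]

end F8

end Cfsg.Agent.Helper86.PG63
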