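import Cfsg.Agent.Helper86.PG63.Defs
import Cfsg.Agent.Helper6.Sz10
import Cfsg.Agent.Helper8.G24S
import Cfsg.Agent.Helper8.PG63PSP
import Cfsg.Agent.Helper55.PG63POW
import Cfsg.Agent.Helper53.PG63G
import Cfsg.Agent.Helper24.PG63Q
import Cfsg.Agent.Helper64.PG63N2
import Cfsg.Agent.Helper68.PG63N3
import Cfsg.Agent.Helper68.PG63N4
import Cfsg.Agent.Helper12.PG63CMP1
import Cfsg.Agent.Helper23.PG63CMP2
import Cfsg.Agent.Helper41.PG63CMP4
import Cfsg.Agent.Helper41.PG63M3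
import Cfsg.Agent.Helper31.PG63M4

/-!
# S3664 (helper86): assembly

Groups of unbounded order with the prime graph of `PSp(6,3)`: `H_k = M^k ⋊ (Sz(8):3)`.
Pieces by helper8 (whole symplectic side), helper55 (POW), helper53 (G), helper24 (Q),
helper64 (N2), helper68 (N3, N4), helper12 (CMP1), helper23 (CMP2), helper41 (CMP4, M3),
helper31 (M4); Suzuki library by helper6.
-/

set_option autoImplicit false

namespace Cfsg.Agent.Helper86.PG63Main

open Cfsg Cfsg.Agent.Helper86.PG63 Cfsg.Agent.Helper6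

/-! ## the pieces -/

theorem hasGraph_semidirect {P V : Type} [Group P] [Finite P] [CommGroup V] [Finite V]
    (ψ : P →* MulAut V) (hV2 : ∀ u : V, u * u = 1) (hV : ∃ k : ℕ, 0 < k ∧ Nat.card V = 2 ^ k)
    (hP : Nat.card P = 87360)
    (h6 : ∃ a : P, orderOf a = 6) (h15 : ∃ a : P, orderOf a = 15)
    (h5 : ∃ a : P, orderOf a = 5 ∧ ∃ u : V, u ≠ 1 ∧ ψ a u = u)
    (h7 : ∃ a : P, orderOf a = 7 ∧ ∃ u : V, u ≠ 1 ∧ ψ a u = u)
    (h13 : ∀ a : P, orderOf a = 13 → ∀ u : V, ψ a u = u → u = 1)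
    (hno : NoBad P) : HasGraph (V ⋊[ψ] P) :=
  Cfsg.Agent.Helper53.PG63.hasGraph_semidirect ψ hV2 hV hP h6 h15 h5 h7 h13 hno

theorem exists_extension {N V : Type} [Group N] [Finite N] [CommGroup V] (σ : MulAut N)
    (ψN : N →* MulAut V) (Φ : MulAut V) (hσ : σ ^ 3 = 1) (hσ1 : σ ≠ 1) (hΦ : Φ ^ 3 = 1)
    (hcompat : ∀ n : N, Φ * ψN n * Φ⁻¹ = ψN (σ n)) (h3 : ¬ 3 ∣ Nat.card N) :
    ∃ (P : Type) (_ : Group P) (_ : Finite P) (ι : N →* P) (ψ : P →* MulAut V),
      Function.Injective ι ∧ (∀ n, ψ (ι n) = ψN n) ∧ Nat.card P = 3 * Nat.card N ∧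
      (∀ a : P, ¬ 3 ∣ orderOf a → ∃ n, ι n = a) ∧
      (∀ n : N, σ n = n → ¬ 3 ∣ orderOf n → ∃ a : P, orderOf a = 3 * orderOf n) ∧
      (∀ a : P, ∀ q : ℕ, q.Prime → q ≠ 3 → orderOf a = 3 * q →
        ∃ n : N, orderOf n = q ∧ σ n = n) :=
  Cfsg.Agent.Helper24.PG63.exists_extension σ ψN Φ hσ hσ1 hΦ hcompat h3

theorem exists_pow_module {P V : Type} [Group P] [CommGroup V] [Finite V] (ψ : P →* MulAut V)
    (k : ℕ) (hk : 0 < k) :
    ∃ (W : Type) (_ : CommGroup W) (_ : Finite W) (ψ' : P →* MulAut W),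
      Nat.card W = Nat.card V ^ k ∧ ((∀ u : V, u * u = 1) → ∀ w : W, w * w = 1) ∧
      (∀ a : P, (∃ u : V, u ≠ 1 ∧ ψ a u = u) → ∃ w : W, w ≠ 1 ∧ ψ' a w = w) ∧
      (∀ a : P, (∀ u : V, ψ a u = u → u = 1) → ∀ w : W, ψ' a w = w → w = 1) :=
  Cfsg.Agent.Helper55.PG63.exists_pow_module ψ k hk

theorem szG_noBad (n : SzG) :
    orderOf n ≠ 35 ∧ orderOf n ≠ 26 ∧ orderOf n ≠ 65 ∧ orderOf n ≠ 91 :=
  Cfsg.Agent.Helper64.PG63.szG_noBad n

theorem frobSL_mem (g : SL4) (hg : g ∈ SzG) : frobSL g ∈ SzG :=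
  Cfsg.Agent.Helper68.PG63.frobSL_mem g hg

theorem frobSL_fixed_false (g : SL4) (hg : g ∈ SzG) (hfix : frobSL g = g)
    (ho : orderOf g = 7 ∨ orderOf g = 13) : False :=
  Cfsg.Agent.Helper68.PG63.frobSL_fixed_false g hg hfix ho

theorem t2_facts : t2 ∈ SzG ∧ frobSL t2 = t2 ∧ orderOf t2 = 2 :=
  Cfsg.Agent.Helper12.PG63.t2_facts

theorem t5_facts : t5 ∈ SzG ∧ frobSL t5 = t5 ∧ orderOf t5 = 5 :=
  Cfsg.Agent.Helper12.PG63.t5_facts

theorem x13_facts : x13 ∈ SzG ∧ orderOf x13 = 13 :=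
  Cfsg.Agent.Helper23.PG63.x13_facts

theorem h7_facts : h7 ∈ SzG ∧ orderOf h7 = 7 :=
  Cfsg.Agent.Helper23.PG63.h7_facts

theorem fpf_x13 (X : M4) (h : actM x13 X = X) : X = 0 :=
  Cfsg.Agent.Helper41.PG63.fpf_x13 X h

theorem fix_t5 : actM t5 J4 = J4 ∧ J4 ≠ 0 :=
  Cfsg.Agent.Helper41.PG63.fix_t5

theorem fix_h7 : actM h7 E01 = E01 ∧ E01 ≠ 0 :=
  Cfsg.Agent.Helper31.PG63.fix_h7

theorem psp_hasGraph {F : Type*} [Field F] [Fintype F] (hF : Fintype.card F = 3) :
    HasGraph (Cfsg.PSp 3 F) :=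
  Cfsg.Agent.Helper8.PG63.psp_hasGraph hF

/-! ## assembly of the Suzuki side -/

theorem frobSL_coe (g : SL4) : ((frobSL g : SL4) : M4) = (g : M4).map frobF8 := rfl

theorem frobSL_cube (g : SL4) : frobSL (frobSL (frobSL g)) = g := by
  apply Subtype.ext
  ext i j
  simp only [frobSL_coe, Matrix.map_apply]
  exact frobF8_cube _

theorem frobM_cube (X : M4) : frobM (frobM (frobM X)) = X := by
  ext i j
  simp only [frobM, Matrix.map_apply]
  exact frobF8_cube _

theorem frobM_add (X Y : M4) : frobM (X + Y) = frobM X + frobM Y := by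
  ext i j
  simp [frobM]

theorem frobM_mul (X Y : M4) : frobM (X * Y) = frobM X * frobM Y := by
  unfold frobM
  exact Matrix.map_mul

theorem frobM_transpose (X : M4) : frobM X.transpose = (frobM X).transpose := by
  ext i j
  simp [frobM]

theorem actM_one (X : M4) : actM 1 X = X := by
  simp [actM]

theorem actM_mul (g h : SL4) (X : M4) : actM (g * h) X = actM g (actM h X) := by
  simp only [actM, map_mul, Matrix.SpecialLinearGroup.coe_mul, Matrix.transpose_mul]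
  simp only [Matrix.mul_assoc]

theorem actM_add (g : SL4) (X Y : M4) : actM g (X + Y) = actM g X + actM g Y := by
  simp only [actM, Matrix.mul_add, Matrix.add_mul]

theorem frobM_actM (g : SL4) (X : M4) : frobM (actM g X) = actM (frobSL g) (frobM X) := by
  simp only [actM, frobM_mul, frobM_transpose]
  rfl

/-- the additive automorphism of `M4` given by `g` -/
def actAdd (g : SL4) : M4 ≃+ M4 where
  toFun := actM g
  invFun := actM g⁻¹
  left_inv X := by rw [← actM_mul, inv_mul_cancel, actM_one]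
  right_inv X := by rw [← actM_mul, mul_inv_cancel, actM_one]
  map_add' := actM_add g

/-- the Frobenius as an additive automorphism of `M4` -/
def frobAdd : M4 ≃+ M4 where
  toFun := frobM
  invFun X := frobM (frobM X)
  left_inv X := frobM_cube X
  right_inv X := frobM_cube X
  map_add' := frobM_add

/-- the Frobenius automorphism of `Sz(8)` -/
def σSz : MulAut SzG where
  toFun n := ⟨frobSL n, frobSL_mem n n.2⟩
  invFun n := ⟨frobSL (frobSL n), frobSL_mem _ (frobSL_mem n n.2)⟩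
  left_inv n := Subtype.ext (frobSL_cube n)
  right_inv n := Subtype.ext (frobSL_cube n)
  map_mul' a b := Subtype.ext (map_mul frobSL (a : SL4) (b : SL4))

theorem σSz_coe (n : SzG) : ((σSz n : SzG) : SL4) = frobSL n := rfl

/-- the action of `Sz(8)` on `Multiplicative M4` -/
def ψSz : SzG →* MulAut (Multiplicative M4) where
  toFun n := AddEquiv.toMultiplicative (actAdd n)
  map_one' := by
    refine MulEquiv.ext fun u => ?_
    show Multiplicative.ofAdd (actM 1 (Multiplicative.toAdd u)) = u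
    rw [actM_one]; rfl
  map_mul' a b := by
    refine MulEquiv.ext fun u => ?_
    show Multiplicative.ofAdd (actM ((a : SL4) * b) (Multiplicative.toAdd u)) =
      Multiplicative.ofAdd (actM a (actM b (Multiplicative.toAdd u)))
    rw [actM_mul]

theorem ψSz_apply (n : SzG) (u : Multiplicative M4) :
    ψSz n u = Multiplicative.ofAdd (actM n (Multiplicative.toAdd u)) := rfl

/-- the Frobenius on `Multiplicative M4` -/
def ΦM : MulAut (Multiplicative M4) := AddEquiv.toMultiplicative frobAdd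

theorem ΦM_apply (u : Multiplicative M4) :
    ΦM u = Multiplicative.ofAdd (frobM (Multiplicative.toAdd u)) := rfl

theorem finite_SzG : Finite SzG :=
  Nat.finite_of_card_ne_zero (by
    rw [card_Sz (le_refl 1) F8.card_eq', F8.card_eq]; norm_num)

theorem card_SzG : Nat.card SzG = 29120 := by
  rw [card_Sz (le_refl 1) F8.card_eq', F8.card_eq]; norm_num


theorem σSz_pow_three : σSz ^ 3 = 1 := by
  refine MulEquiv.ext fun n => ?_
  apply Subtype.ext
  show frobSL (frobSL (frobSL (n : SL4))) = n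
  exact frobSL_cube n

theorem ΦM_pow_three : ΦM ^ 3 = 1 := by
  refine MulEquiv.ext fun u => ?_
  show Multiplicative.ofAdd (frobM (frobM (frobM (Multiplicative.toAdd u)))) = u
  rw [frobM_cube]; rfl

theorem σSz_ne_one : σSz ≠ 1 := by
  intro h
  have h1 : σSz ⟨h7, h7_facts.1⟩ = ⟨h7, h7_facts.1⟩ := by rw [h]; rfl
  have h2 : frobSL h7 = h7 := congrArg Subtype.val h1
  exact frobSL_fixed_false h7 h7_facts.1 h2 (Or.inl h7_facts.2)

theorem compat_Sz (n : SzG) : ΦM * ψSz n * ΦM⁻¹ = ψSz (σSz n) := by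
  rw [mul_inv_eq_iff_eq_mul]
  refine MulEquiv.ext fun u => ?_
  show Multiplicative.ofAdd (frobM (actM n (Multiplicative.toAdd u))) =
    Multiplicative.ofAdd (actM (frobSL n) (frobM (Multiplicative.toAdd u)))
  rw [frobM_actM]

theorem mul_self_M4 (u : Multiplicative M4) : u * u = 1 := by
  show Multiplicative.ofAdd (Multiplicative.toAdd u + Multiplicative.toAdd u) = 1
  have : Multiplicative.toAdd u + Multiplicative.toAdd u = 0 := by
    ext i j
    exact F8.add_self _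
  rw [this]; rfl

theorem card_M4 : Nat.card (Multiplicative M4) = 2 ^ 48 := by
  show Nat.card (Fin 4 → Fin 4 → F8) = 2 ^ 48
  rw [Nat.card_eq_fintype_card, Fintype.card_fun, Fintype.card_fun, F8.card_eq]
  norm_num

theorem not_three_dvd_card_SzG : ¬ 3 ∣ Nat.card SzG := by
  rw [card_SzG]; norm_num

/-- all elements of order `13` of `Sz(8)` act fixed-point-freely -/
theorem fpf_of_orderOf_thirteen (n : SzG) (hn : orderOf n = 13) (u : Multiplicative M4)
    (hu : ψSz n u = u) : u = 1 := by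
  haveI := finite_SzG
  haveI : Fact (Nat.Prime 13) := ⟨by norm_num⟩
  have hx : orderOf (⟨x13, x13_facts.1⟩ : SzG) = 13 := by
    rw [← Subgroup.orderOf_coe]; exact x13_facts.2
  obtain ⟨k, hk⟩ := Cfsg.Agent.Helper8.G24.exists_conj_zpowers 13 (⟨x13, x13_facts.1⟩ : SzG) n hx hn
    (by rw [card_SzG]; norm_num)
  have hfx : Cfsg.Agent.Helper8.G24.Fpf ψSz (⟨x13, x13_facts.1⟩ : SzG) := by
    intro w hw
    have h1 : actM x13 (Multiplicative.toAdd w) = Multiplicative.toAdd w :=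
      congrArg Multiplicative.toAdd hw
    have h2 := fpf_x13 _ h1
    show w = Multiplicative.ofAdd 0
    rw [← h2]; rfl
  exact Cfsg.Agent.Helper8.G24.Fpf.of_conj ψSz hfx hk u hu


/-- the Suzuki side: the family -/
theorem exists_family (k : ℕ) (hk : 0 < k) :
    ∃ (H : Type) (_ : Group H) (_ : Finite H), 2 ^ (48 * k) ≤ Nat.card H ∧ HasGraph H := by
  haveI := finite_SzG
  haveI : Finite (Multiplicative M4) := Nat.finite_of_card_ne_zero (by rw [card_M4]; norm_num)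
  obtain ⟨P, hPg, hPf, ι, ψ, hι, hψ, hPcard, hcop, hfix, hthree⟩ :=
    exists_extension σSz ψSz ΦM σSz_pow_three σSz_ne_one ΦM_pow_three compat_Sz
      not_three_dvd_card_SzG
  obtain ⟨W, hWg, hWf, ψ', hWcard, hW2, hWfix, hWfpf⟩ := exists_pow_module ψ k hk
  have hordι : ∀ n : SzG, orderOf (ι n) = orderOf n := fun n => orderOf_injective ι hι n
  -- the hypotheses of (G)
  have hP : Nat.card P = 87360 := by rw [hPcard, card_SzG]
  have hWc : Nat.card W = 2 ^ (48 * k) := by rw [hWcard, card_M4, ← pow_mul]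
  have h6 : ∃ a : P, orderOf a = 6 := by
    obtain ⟨hm, hf, ho⟩ := t2_facts
    have ho' : orderOf (⟨t2, hm⟩ : SzG) = 2 := by rw [← Subgroup.orderOf_coe]; exact ho
    obtain ⟨a, ha⟩ := hfix ⟨t2, hm⟩ (Subtype.ext hf) (by rw [ho']; norm_num)
    exact ⟨a, by rw [ha, ho']⟩
  have h15 : ∃ a : P, orderOf a = 15 := by
    obtain ⟨hm, hf, ho⟩ := t5_facts
    have ho' : orderOf (⟨t5, hm⟩ : SzG) = 5 := by rw [← Subgroup.orderOf_coe]; exact ho
    obtain ⟨a, ha⟩ := hfix ⟨t5, hm⟩ (Subtype.ext hf) (by rw [ho']; norm_num)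
    exact ⟨a, by rw [ha, ho']⟩
  have h5 : ∃ a : P, orderOf a = 5 ∧ ∃ w : W, w ≠ 1 ∧ ψ' a w = w := by
    obtain ⟨hm, -, ho⟩ := t5_facts
    have ho' : orderOf (⟨t5, hm⟩ : SzG) = 5 := by rw [← Subgroup.orderOf_coe]; exact ho
    refine ⟨ι ⟨t5, hm⟩, by rw [hordι, ho'], hWfix _ ⟨Multiplicative.ofAdd J4, ?_, ?_⟩⟩
    · intro h
      exact fix_t5.2 (congrArg Multiplicative.toAdd h)
    · rw [hψ]
      show Multiplicative.ofAdd (actM t5 J4) = _
      rw [fix_t5.1]
  have h7 : ∃ a : P, orderOf a = 7 ∧ ∃ w : W, w ≠ 1 ∧ ψ' a w = w := by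
    obtain ⟨hm, ho⟩ := h7_facts
    have ho' : orderOf (⟨h7, hm⟩ : SzG) = 7 := by rw [← Subgroup.orderOf_coe]; exact ho
    refine ⟨ι ⟨h7, hm⟩, by rw [hordι, ho'], hWfix _ ⟨Multiplicative.ofAdd E01, ?_, ?_⟩⟩
    · intro h
      exact fix_h7.2 (congrArg Multiplicative.toAdd h)
    · rw [hψ]
      show Multiplicative.ofAdd (actM h7 E01) = _
      rw [fix_h7.1]
  have h13 : ∀ a : P, orderOf a = 13 → ∀ w : W, ψ' a w = w → w = 1 := by
    intro a ha
    apply hWfpf
    obtain ⟨n, rfl⟩ := hcop a (by rw [ha]; norm_num)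
    intro u hu
    rw [hψ] at hu
    exact fpf_of_orderOf_thirteen n (by rw [← hordι, ha]) u hu
  have hno : NoBad P := by
    intro a
    have hN : ∀ d : ℕ, ¬ 3 ∣ d → orderOf a = d → ∃ n : SzG, orderOf n = d := by
      intro d hd ha
      obtain ⟨n, rfl⟩ := hcop a (by rw [ha]; exact hd)
      exact ⟨n, by rw [← hordι, ha]⟩
    have hT : ∀ q : ℕ, q.Prime → q ≠ 3 → (q = 7 ∨ q = 13) → orderOf a ≠ 3 * q := by
      intro q hq hq3 hq' ha
      obtain ⟨n, hn, hσ⟩ := hthree a q hq hq3 ha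
      have h1 : frobSL (n : SL4) = n := congrArg Subtype.val hσ
      have h2 : orderOf (n : SL4) = q := by rw [Subgroup.orderOf_coe]; exact hn
      rcases hq' with rfl | rfl
      · exact frobSL_fixed_false n n.2 h1 (Or.inl h2)
      · exact frobSL_fixed_false n n.2 h1 (Or.inr h2)
    refine ⟨hT 7 (by norm_num) (by norm_num) (Or.inl rfl), ?_, ?_,
      hT 13 (by norm_num) (by norm_num) (Or.inr rfl), ?_, ?_⟩
    · intro ha
      obtain ⟨n, hn⟩ := hN 35 (by norm_num) ha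
      exact (szG_noBad n).1 hn
    · intro ha
      obtain ⟨n, hn⟩ := hN 26 (by norm_num) ha
      exact (szG_noBad n).2.1 hn
    · intro ha
      obtain ⟨n, hn⟩ := hN 65 (by norm_num) ha
      exact (szG_noBad n).2.2.1 hn
    · intro ha
      obtain ⟨n, hn⟩ := hN 91 (by norm_num) ha
      exact (szG_noBad n).2.2.2 hn
  refine ⟨W ⋊[ψ'] P, inferInstance, Finite.of_equiv _ SemidirectProduct.equivProd.symm, ?_,
    hasGraph_semidirect ψ' (hW2 mul_self_M4) ⟨48 * k, by omega, hWc⟩ hP h6 h15 h5 h7 h13 hno⟩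
  rw [Nat.card_congr SemidirectProduct.equivProd, Nat.card_prod, hWc, hP]
  exact Nat.le_mul_of_pos_right _ (by norm_num)



/-- the statement -/
theorem main {F : Type*} [Field F] [Fintype F] (hF : Fintype.card F = 3) (N : ℕ) :
    ∃ (H : Type) (_ : Group H) (_ : Finite H), N < Nat.card H ∧
      ((∀ p : ℕ, p.Prime → (p ∣ Nat.card (Cfsg.PSp 3 F) ↔ p ∣ Nat.card H)) ∧
      (∀ p q : ℕ, p.Prime → q.Prime → p ≠ q →
        ((∃ g : (Cfsg.PSp 3 F), orderOf g = p * q) ↔ (∃ g : H, orderOf g = p * q)))) := by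
  obtain ⟨H, hG, hfin, hcard, hH⟩ := exists_family (N + 1) (Nat.succ_pos N)
  have hL := psp_hasGraph hF
  refine ⟨H, hG, hfin, ?_, ?_, ?_⟩
  · refine lt_of_lt_of_le ?_ hcard
    calc N < N + 1 := Nat.lt_succ_self N
      _ < 2 ^ (N + 1) := Nat.lt_two_pow_self
      _ ≤ 2 ^ (48 * (N + 1)) := Nat.pow_le_pow_right (by norm_num) (by omega)
  · intro p hp
    rw [hL.1 p hp, hH.1 p hp]
  · intro p q hp hq hpq
    rw [hL.2 p q hp hq hpq, hH.2 p q hp hq hpq]

end Cfsg.Agent.Helper86.PG63Main
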